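import Groth.Agent.Hens.SmoothUnibranch

/-!
# Local rings of smooth algebras over unibranch local domains, purely inseparable residue extensions
-/

set_option autoImplicit false
set_option linter.style.haveILetI false
set_option backward.isDefEq.respectTransparency.types false

universe u

open TensorProduct IsLocalRing

namespace Groth.Agent.SmoothBrPI

open EtStruct Groth.Agent.Hens

/-- A local domain is unibranch iff its normalization is local. -/
theorem isUnibranch_iff (A : Type u) [CommRing A] [IsLocalRing A] [IsDomain A] (K : Type u)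
    [Field K] [Algebra A K] [IsFractionRing A K] :
    CAlg2.IsUnibranch A ↔ IsLocalRing (integralClosure A K) := by
  let qe : A ≃+* CAlg2.red A :=
    ((Ideal.quotEquivOfEq (nilradical_eq_zero A)).trans (RingEquiv.quotientBot A)).symm
  have hqe : ∀ a, qe a = Ideal.Quotient.mk (nilradical A) a := fun a ↦ by
    apply qe.symm.injective
    rw [RingEquiv.symm_apply_apply]
    simp [qe]
  have hdom : IsDomain (CAlg2.red A) := qe.symm.toMulEquiv.isDomain_iff.mpr inferInstance
  let : Algebra (CAlg2.red A) K := ((algebraMap A K).comp qe.symm.toRingHom).toAlgebra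
  have : IsScalarTower A (CAlg2.red A) K := .of_algebraMap_eq fun a ↦ by
    rw [Ideal.Quotient.algebraMap_eq, ← hqe, RingHom.algebraMap_toAlgebra]
    simp
  have : IsFractionRing (CAlg2.red A) K := by
    have h := IsLocalization.isLocalization_of_base_ringEquiv (nonZeroDivisors A) K qe
    have hM : (nonZeroDivisors A).map (qe : A →+* CAlg2.red A).toMonoidHom =
        nonZeroDivisors (CAlg2.red A) :=
      MulEquivClass.map_nonZeroDivisors qe.toMulEquiv
    convert h
    exact hM.symm
  let eN := (FractionRing.algEquiv (CAlg2.red A) K).mapIntegralClosure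
  have hint : ∀ x : K, IsIntegral (CAlg2.red A) x ↔ IsIntegral A x := fun x ↦
    ⟨fun h ↦ isIntegral_trans x h, fun h ↦ h.tower_top⟩
  let eA : integralClosure (CAlg2.red A) K ≃+* integralClosure A K :=
    { toFun := fun x ↦ ⟨x.1, (hint _).mp x.2⟩
      invFun := fun x ↦ ⟨x.1, (hint _).mpr x.2⟩
      left_inv := fun _ ↦ rfl
      right_inv := fun _ ↦ rfl
      map_mul' := fun _ _ ↦ rfl
      map_add' := fun _ _ ↦ rfl }
  let e : CAlg2.normRed A ≃+* integralClosure A K := eN.toRingEquiv.trans eA
  have hcomm : ∀ a, e (algebraMap (CAlg2.red A) (CAlg2.normRed A) (Ideal.Quotient.mk _ a)) =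
      algebraMap A (integralClosure A K) a := fun a ↦ by
    show eA (eN (algebraMap _ _ _)) = _
    rw [AlgEquiv.commutes]
    apply Subtype.ext
    show algebraMap (CAlg2.red A) K (Ideal.Quotient.mk _ a) = algebraMap A K a
    exact (IsScalarTower.algebraMap_apply A (CAlg2.red A) K a).symm
  exact ⟨fun h ↦ haveI := h.2; RingEquiv.isLocalRing e,
    fun _ ↦ ⟨hdom, RingEquiv.isLocalRing e.symm⟩⟩

/-- Base change of a local integral algebra along a flat local homomorphism with purely inseparable
residue extension is local. -/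
theorem isLocalRing_tensor {A S A' : Type u} [CommRing A] [IsLocalRing A] [CommRing S] [IsLocalRing S]
    [Algebra A S] [IsLocalHom (algebraMap A S)] [Module.Flat A S] [CommRing A'] [IsLocalRing A']
    [Algebra A A'] [Algebra.IsIntegral A A'] (hinj : Function.Injective (algebraMap A A'))
    (hpi : ∀ x : S, ∃ (n : ℕ) (a : A),
      residue S (algebraMap A S a) = residue S x ^ (ringExpChar (ResidueField S)) ^ n) :
    IsLocalRing (S ⊗[A] A') := by
  have hS : Function.Injective fun x : S ↦ x ⊗ₜ[A] (1 : A') := by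
    have h1 : Function.Injective (LinearMap.lTensor S (Algebra.linearMap A A')) :=
      Module.Flat.lTensor_preserves_injective_linearMap _ hinj
    intro a b h
    have : a ⊗ₜ[A] (1 : A) = b ⊗ₜ[A] (1 : A) := h1 (by simpa using h)
    simpa using congr(TensorProduct.rid A S $this)
  have : Nontrivial (S ⊗[A] A') := hS.nontrivial
  have : Algebra.IsIntegral S (S ⊗[A] A') := inferInstance
  let ι : A' →+* S ⊗[A] A' := (Algebra.TensorProduct.includeRight : A' →ₐ[A] S ⊗[A] A').toRingHom
  have hover : ∀ M : Ideal (S ⊗[A] A'), M.IsMaximal →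
      M.comap (algebraMap S (S ⊗[A] A')) = maximalIdeal S ∧ M.comap ι = maximalIdeal A' := by
    intro M hM
    have h1 : M.comap (algebraMap S (S ⊗[A] A')) = maximalIdeal S :=
      eq_maximalIdeal (Ideal.isMaximal_comap_of_isIntegral_of_isMaximal (R := S) M)
    refine ⟨h1, eq_maximalIdeal ?_⟩
    have : (M.comap ι).IsPrime := Ideal.IsPrime.comap _
    refine Ideal.isMaximal_of_isIntegral_of_isMaximal_comap (R := A) _ ?_
    have : (M.comap ι).comap (algebraMap A A') =
        (M.comap (algebraMap S (S ⊗[A] A'))).comap (algebraMap A S) := by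
      rw [Ideal.comap_comap, Ideal.comap_comap]
      congr 1
      ext a
      simp [ι, ← IsScalarTower.algebraMap_apply A S (S ⊗[A] A')]
    rw [this, h1, (((local_hom_TFAE _).out 0 4 rfl rfl).mp ‹_› :
      (maximalIdeal S).comap (algebraMap A S) = maximalIdeal A)]
    infer_instance
  let J : Ideal (S ⊗[A] A') := (maximalIdeal S).map (algebraMap S (S ⊗[A] A'))
  have hJ : ∀ M : Ideal (S ⊗[A] A'), M.IsMaximal → J ≤ M := fun M hM ↦
    Ideal.map_le_iff_le_comap.mpr (hover M hM).1.ge
  let p := ringExpChar (ResidueField S)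
  obtain ⟨M₀, hM₀⟩ := Ideal.exists_maximal (S ⊗[A] A')
  haveI : Nontrivial ((S ⊗[A] A') ⧸ J) :=
    Ideal.Quotient.nontrivial_iff.mpr (ne_top_of_le_ne_top hM₀.ne_top (hJ M₀ hM₀))
  let κ : ResidueField S →+* (S ⊗[A] A') ⧸ J := Ideal.quotientMap J _ Ideal.le_comap_map
  haveI : ExpChar ((S ⊗[A] A') ⧸ J) p := expChar_of_injective_ringHom κ.injective p
  have hpow : ∀ z : S ⊗[A] A', ∃ (n : ℕ) (a' : A'),
      Ideal.Quotient.mk J (ι a') = Ideal.Quotient.mk J z ^ p ^ n := by
    intro z
    induction z with
    | zero => exact ⟨0, 0, by simp⟩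
    | tmul s x =>
      obtain ⟨n, a, ha⟩ := hpi s
      refine ⟨n, algebraMap A A' a * x ^ p ^ n, ?_⟩
      have hs : Ideal.Quotient.mk J (algebraMap S (S ⊗[A] A') (algebraMap A S a)) =
          Ideal.Quotient.mk J (algebraMap S (S ⊗[A] A') s) ^ p ^ n := by
        have := congrArg κ ha
        rw [map_pow] at this
        exact this
      rw [show s ⊗ₜ[A] x = algebraMap S (S ⊗[A] A') s * ι x by simp [ι],
        map_mul (Ideal.Quotient.mk J) (algebraMap S (S ⊗[A] A') s), mul_pow, map_mul ι,
        map_mul (Ideal.Quotient.mk J), ← hs, map_pow ι, map_pow (Ideal.Quotient.mk J)]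
      congr 2
      rw [← IsScalarTower.algebraMap_apply A S (S ⊗[A] A')]
      exact (Algebra.TensorProduct.includeRight : A' →ₐ[A] S ⊗[A] A').commutes a
    | add z w hz hw =>
      obtain ⟨n, a, ha⟩ := hz
      obtain ⟨m, b, hb⟩ := hw
      refine ⟨n + m, a ^ p ^ m + b ^ p ^ n, ?_⟩
      rw [map_add, map_add, map_pow, map_pow, map_pow, map_pow, ha, hb, ← pow_mul, ← pow_mul,
        ← pow_add, ← pow_add, add_comm m n, map_add]
      exact (add_pow_expChar_pow (Ideal.Quotient.mk J z) (Ideal.Quotient.mk J w) p (n + m)).symm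
  refine IsLocalRing.of_unique_max_ideal ⟨M₀, hM₀, fun M hM ↦ ?_⟩
  refine hM.eq_of_le hM₀.ne_top fun z hz ↦ ?_
  obtain ⟨n, a, ha⟩ := hpow z
  have hp : p ^ n ≠ 0 := pow_ne_zero _ (expChar_pos (ResidueField S) p).ne'
  rw [← map_pow, Ideal.Quotient.eq] at ha
  have h1 : ι a ∈ M :=
    (sub_add_cancel (ι a) (z ^ p ^ n)) ▸
      M.add_mem (hJ M hM ha) (M.pow_mem_of_mem hz _ (Nat.pos_of_ne_zero hp))
  have h2 : a ∈ maximalIdeal A' := (hover M hM).2 ▸ h1
  have h3 : ι a ∈ M₀ := by
    rw [← Ideal.mem_comap, (hover M₀ hM₀).2]; exact h2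
  refine hM₀.isPrime.mem_of_pow_mem (p ^ n) ?_
  exact (sub_sub_cancel (ι a) (z ^ p ^ n)) ▸ M₀.sub_mem h3 (hJ M₀ hM₀ ha)

set_option maxHeartbeats 1000000 in
/-- The local ring of a smooth algebra over a unibranch local domain at a prime over the closed point
with purely inseparable residue extension is a unibranch domain. -/
theorem isDomain_and_isUnibranch_of_smooth {A R' S : Type u} [CommRing A] [IsLocalRing A]
    [IsDomain A] [CommRing R'] [Algebra A R'] [Algebra.Smooth A R'] [CommRing S] [IsLocalRing S]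
    [Algebra A S] [Algebra R' S] [IsScalarTower A R' S] (p : Ideal R') [p.IsPrime]
    [IsLocalization.AtPrime S p] (hp : (IsLocalRing.maximalIdeal A).map (algebraMap A R') ≤ p)
    (hA : CAlg2.IsUnibranch A) (hpi : ∀ x : S, ∃ (n : ℕ) (a : A),
      residue S (algebraMap A S a) = residue S x ^ (ringExpChar (ResidueField S)) ^ n) :
    IsDomain S ∧ CAlg2.IsUnibranch S := by
  let K := FractionRing A
  let A' := integralClosure A K
  haveI hloc : IsLocalRing A' := (isUnibranch_iff A K).mp hA
  haveI : IsLocalHom (algebraMap A S) := ⟨fun a ha ↦ by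
    by_contra h
    rw [IsScalarTower.algebraMap_apply A R' S] at ha
    exact (IsLocalization.AtPrime.isUnit_to_map_iff S p _).mp ha
      (hp (Ideal.mem_map_of_mem _ ((IsLocalRing.mem_maximalIdeal a).mpr h)))⟩
  haveI : Module.Flat R' S := IsLocalization.flat S p.primeCompl
  haveI : Module.Flat A S := Module.Flat.trans A R' S
  haveI : IsIntegrallyClosed A' := integralClosure.isIntegrallyClosedOfFiniteExtension K
  have hAA' : Function.Injective (algebraMap A A') := fun a b h ↦
    IsFractionRing.injective A K (congrArg Subtype.val h)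
  haveI hlocT := isLocalRing_tensor (S := S) hAA' hpi
  obtain ⟨hdom, hic⟩ := SmoothUnibranch.isNormal_tensor (A := A) (A' := A') (R' := R') (S := S) p
  have hSE : Function.Injective (algebraMap S (S ⊗[A] A')) := by
    have h1 : Function.Injective (LinearMap.lTensor S (Algebra.linearMap A A')) :=
      Module.Flat.lTensor_preserves_injective_linearMap _ hAA'
    intro a b h
    have : a ⊗ₜ[A] (1 : A) = b ⊗ₜ[A] (1 : A) := h1 (by simpa using h)
    simpa using congr(TensorProduct.rid A S $this)
  haveI : IsDomain S := hSE.isDomain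
  refine ⟨inferInstance, ?_⟩
  let L := FractionRing (S ⊗[A] A')
  have hSL : Function.Injective (algebraMap S L) := by
    rw [IsScalarTower.algebraMap_eq S (S ⊗[A] A') L]
    exact (IsFractionRing.injective (S ⊗[A] A') L).comp hSE
  haveI : FaithfulSMul S L := (faithfulSMul_iff_algebraMap_injective _ _).mpr hSL
  -- every element of `(S ⊗[A] A')` is a fraction of elements of `S`
  have hfrac : ∀ z : (S ⊗[A] A'), ∃ (s : S) (b : A), b ≠ 0 ∧ algebraMap A (S ⊗[A] A') b * z = algebraMap S (S ⊗[A] A') s := by
    intro z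
    induction z with
    | zero => exact ⟨0, 1, one_ne_zero, by simp⟩
    | tmul s x =>
      obtain ⟨a, b, hb, hab⟩ := IsFractionRing.div_surjective (A := A) (x : K)
      refine ⟨algebraMap A S a * s, b, nonZeroDivisors.ne_zero hb, ?_⟩
      have hbx : b • x = algebraMap A A' a := Subtype.ext (by
        show b • (x : K) = algebraMap A K a
        rw [Algebra.smul_def, ← hab, mul_div_cancel₀ _
          (IsFractionRing.to_map_ne_zero_of_mem_nonZeroDivisors hb)])
      rw [← Algebra.smul_def, ← TensorProduct.tmul_smul, hbx, Algebra.algebraMap_eq_smul_one (A := A'),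
        TensorProduct.tmul_smul, TensorProduct.smul_tmul', Algebra.TensorProduct.algebraMap_apply,
        Algebra.algebraMap_self, RingHom.id_apply, Algebra.smul_def]
    | add z w hz hw =>
      obtain ⟨s, a, ha, hs⟩ := hz
      obtain ⟨t, b, hb, ht⟩ := hw
      refine ⟨algebraMap A S b * s + algebraMap A S a * t, a * b, mul_ne_zero ha hb, ?_⟩
      rw [map_mul, map_add, map_mul, map_mul, ← hs, ← ht,
        ← IsScalarTower.algebraMap_apply, ← IsScalarTower.algebraMap_apply]
      ring
  have hA0 : ∀ b : A, b ≠ 0 → algebraMap A S b ≠ 0 := fun b hb h0 ↦ by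
    have h1 : Function.Injective (LinearMap.lTensor S (LinearMap.lsmul A A b)) :=
      Module.Flat.lTensor_preserves_injective_linearMap _ fun x y h ↦ mul_left_cancel₀ hb h
    have h2 : LinearMap.lTensor S (LinearMap.lsmul A A b) ((1 : S) ⊗ₜ[A] (1 : A)) = 0 := by
      simp only [LinearMap.lTensor_tmul, LinearMap.lsmul_apply]
      rw [TensorProduct.tmul_smul, TensorProduct.smul_tmul', Algebra.smul_def, h0, zero_mul,
        TensorProduct.zero_tmul]
    have h3 := congrArg (TensorProduct.rid A S) (h1 (h2.trans (map_zero _).symm))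
    simp at h3
  haveI : IsFractionRing S L := by
    refine IsFractionRing.of_field S L fun z ↦ ?_
    obtain ⟨x, y, hy, rfl⟩ := IsFractionRing.div_surjective (A := (S ⊗[A] A')) z
    obtain ⟨s, a, ha, hs⟩ := hfrac x
    obtain ⟨t, b, hb, ht⟩ := hfrac y
    refine ⟨algebraMap A S b * s, algebraMap A S a * t, ?_⟩
    have hy0 : algebraMap (S ⊗[A] A') L y ≠ 0 := IsFractionRing.to_map_ne_zero_of_mem_nonZeroDivisors hy
    have ha0 : algebraMap A L a ≠ 0 := by
      rw [IsScalarTower.algebraMap_apply A S L]
      exact fun h ↦ hA0 a ha (hSL (h.trans (map_zero _).symm))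
    have hb0 : algebraMap A L b ≠ 0 := by
      rw [IsScalarTower.algebraMap_apply A S L]
      exact fun h ↦ hA0 b hb (hSL (h.trans (map_zero _).symm))
    simp only [IsScalarTower.algebraMap_apply S (S ⊗[A] A') L, map_mul]
    rw [← hs, ← ht]
    simp only [map_mul, ← IsScalarTower.algebraMap_apply]
    rw [mul_left_comm (algebraMap A L b), mul_div_mul_left _ _ ha0, mul_div_mul_left _ _ hb0]
  let e : (S ⊗[A] A') ≃+* integralClosure S L := RingEquiv.ofBijective
    ((IsScalarTower.toAlgHom S (S ⊗[A] A') L).codRestrict (integralClosure S L)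
      fun x ↦ (Algebra.IsIntegral.isIntegral x).map (IsScalarTower.toAlgHom S (S ⊗[A] A') L)).toRingHom
    ⟨fun x y h ↦ IsFractionRing.injective (S ⊗[A] A') L (congrArg Subtype.val h), fun z ↦ by
      obtain ⟨x, hx⟩ := IsIntegrallyClosed.isIntegral_iff.mp (z.2.tower_top (A := (S ⊗[A] A')))
      exact ⟨x, Subtype.ext hx⟩⟩
  exact (isUnibranch_iff S L).mpr (RingEquiv.isLocalRing e)

end Groth.Agent.SmoothBrPI
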